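import Cfsg.Agent.Lib.Goldschmidt.General.Targets
import Cfsg.Agent.Lib.Goldschmidt.General.Layers.Basic

/-!
# The kind of the top components of a block (owner: helper84; section MakeFrame of `GENERAL.md`)

`L = ⟨P ^ C(C)⟩` maps onto every top component with fixer `C` and part `P`, and the kernel is its odd
core.  So these components are isomorphic: all of rank type (`BorelCent`) or all small.

* `BorelCent`, `RankFacts.borelCent`, `SmallFacts.not_borelCent`
* `Ctx.card_eq_mul_fixerAt`, `Ctx.self_mem_fixerAt_moved`, `Ctx.not_le_fixerAt`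
* `pairLayer`, `Ctx.borelCent_iff` : the kind is read off from `pairLayer C P`
-/

set_option autoImplicit false
set_option linter.unusedSectionVars false
set_option linter.style.haveILetI false

namespace Cfsg.Agent.Goldschmidt.General

open Cfsg Subgroup
open Layers (pre mem_pre conjMap_fixed)

universe u

/-- Centralisers of involutions normalise their Sylow subgroups. -/
def BorelCent (L : Type u) [Group L] : Prop :=
  ∀ Q : Sylow 2 L, ∀ z ∈ Q, z ≠ 1 → z * z = 1 →
    centralizer ({z} : Set L) ≤ normalizer ((Q : Subgroup L) : Set L)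

theorem RankFacts.borelCent {L : Type u} [Group L] {q : ℕ} (h : RankFacts L q) : BorelCent L :=
  fun Q z hz hz1 hzz => h.cent Q z ((h.omega Q z hz).1 hzz) hz1

theorem SmallFacts.not_borelCent {L : Type u} [Group L] [Finite L] {q : ℕ} (h : SmallFacts L q) :
    ¬ BorelCent L := by
  intro hB
  haveI := h.simple
  obtain ⟨Q⟩ : Nonempty (Sylow 2 L) := inferInstance
  obtain ⟨hel, hcard⟩ := h.sylow Q
  have htop : normalizer ((Q : Subgroup L) : Set L) = ⊤ := top_unique ((h.gen Q).ge.trans (iSup_le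
    fun p => hB Q p.1 p.2.1 p.2.2 (by
      have := hel.2 p.1 p.2.1
      rwa [pow_two] at this)))
  rcases (normalizer_eq_top_iff.1 htop).eq_bot_or_eq_top with e | e
  · rw [e, card_bot] at hcard
    rcases h.four_or_eight with h4 | h8 <;> omega
  · have hc : Subgroup.center L = ⊤ := top_unique fun x _ => mem_center_iff.2 fun g =>
      congrArg Subtype.val (hel.1.is_comm.comm ⟨g, e ▸ mem_top g⟩ ⟨x, e ▸ mem_top x⟩)
    exact bot_ne_top (h.center.symm.trans hc)

theorem borelCent_congr {L L' : Type u} [Group L] [Group L'] [Finite L] (e : L ≃* L') :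
    BorelCent L ↔ BorelCent L' := by
  suffices key : ∀ {L L' : Type u} [Group L] [Group L'] [Finite L] (e : L ≃* L'),
      BorelCent L → BorelCent L' from
    haveI := Finite.of_equiv L e.toEquiv
    ⟨key e, key e.symm⟩
  intro L L' _ _ _ e h Q z hz hz1 hzz w hw
  haveI := Finite.of_equiv L e.toEquiv
  set Q₀ : Sylow 2 L := Q.mapSurjective (f := e.symm.toMonoidHom) e.symm.surjective
  have hmem : ∀ x, x ∈ Q₀ ↔ e x ∈ Q := fun x =>
    ⟨fun ⟨y, hy, hye⟩ => by
      subst hye
      show e (e.symm y) ∈ Q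
      rwa [e.apply_symm_apply],
    fun hx => ⟨e x, hx, e.symm_apply_apply x⟩⟩
  have h1 := h Q₀ (e.symm z) ((hmem _).2 (by rwa [e.apply_symm_apply]))
    (fun h1 => hz1 (by rw [← e.apply_symm_apply z, h1, map_one]))
    (by rw [← map_mul, hzz, map_one])
    (show e.symm w ∈ centralizer ({e.symm z} : Set L) from mem_centralizer_singleton_iff.2 (by
      rw [← map_mul, ← map_mul, mem_centralizer_singleton_iff.1 hw]))
  refine mem_normalizer_iff.2 fun y => ?_
  have h2 : e.symm y ∈ Q₀ ↔ e.symm w * e.symm y * (e.symm w)⁻¹ ∈ Q₀ :=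
    mem_normalizer_iff.1 h1 (e.symm y)
  rw [hmem, hmem] at h2
  simp only [map_mul, map_inv, e.apply_symm_apply] at h2
  exact h2

/-- The subgroup generated by the conjugates of `P` under the centraliser of `C`. -/
def pairLayer {G : Type u} [Group G] (C P : Subgroup G) : Subgroup G :=
  Subgroup.closure {y | ∃ w ∈ centralizer (C : Set G), ∃ p ∈ P, w * p * w⁻¹ = y}

/-- The layer modulo its odd core is of rank type. -/
def PairRank {G : Type u} [Group G] (B : Subgroup G × Subgroup G) : Prop :=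
  BorelCent (↥(pairLayer B.1 B.2) ⧸ pPrimeCore 2 ↥(pairLayer B.1 B.2))

namespace Ctx

variable {G : Type u} [Group G] [Finite G] {S : Sylow 2 G} {A : Subgroup G} (C : Ctx G S A)
include C

theorem bar_le_centralizer {a : G} (ha : a ∈ A) {K : Subgroup (Bar a)}
    (h : A ≤ fixerAt A a K) : bar A a ≤ centralizer (K : Set (Bar a)) := by
  rintro _ ⟨x, hx, rfl⟩
  exact (C.mem_pull ha hx).1 (h hx)

/-- A moved component is not centralised by all of `A`. -/
theorem not_le_fixerAt {a : G} {K : Subgroup (Bar a)} {q : ℕ} (hK : MovedAt A a K q) :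
    ¬ A ≤ fixerAt A a K :=
  fun h => hK.moved.2 (le_centralizer_iff.1 (C.bar_le_centralizer hK.mem h))

theorem card_bar_eq {a : G} (ha : a ∈ A) : Nat.card ↥(bar A a) = Nat.card ↥A := by
  have h3 := C.card_pull ha (⊤ : Subgroup (Bar a))
  rw [inf_top_eq] at h3
  rw [← h3]
  congr 2
  exact le_antisymm inf_le_left fun z hz => (C.mem_pull ha hz).2 (mem_top _)

theorem card_eq_mul_fixerAt {a : G} {K : Subgroup (Bar a)} {q : ℕ} (hK : MovedAt A a K q) :
    Nat.card ↥A = q * Nat.card ↥(fixerAt A a K) := by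
  rw [← C.card_bar_eq hK.mem, hK.data.card]
  exact congrArg _ (C.card_pull hK.mem _).symm

theorem self_mem_fixerAt_moved {a : G} {K : Subgroup (Bar a)} {q : ℕ} (hK : MovedAt A a K q) :
    a ∈ fixerAt A a K :=
  (C.mem_pull hK.mem hK.mem).2 (mem_centralizer_iff.2 fun m _ => by
    obtain ⟨z, rfl⟩ := QuotientGroup.mk'_surjective _ m
    rw [← map_mul, ← map_mul]
    exact congrArg _ (Subtype.ext (mem_centralizer_singleton_iff.1 z.2)))

/-- Elements centralising a component lift. -/
theorem exists_cent_lift {a : G} (ha : a ∈ A) {K : Subgroup (Bar a)} {B : Subgroup G}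
    (hB : B ≤ fixerAt A a K) {m : Bar a} (hm : m ∈ K) :
    ∃ y ∈ centralizer (B : Set G), ∃ hy : y ∈ centralizer ({a} : Set G), proj a ⟨y, hy⟩ = m := by
  haveI : Fact (Nat.Prime 2) := ⟨Nat.prime_two⟩
  set X := centralizer ({a} : Set G)
  have hBX : B ≤ X := (hB.trans inf_le_left).trans (C.le_centralizer_of_mem ha)
  have hR : IsPGroup 2 ↥(B.subgroupOf X) :=
    (C.two.to_le (hB.trans inf_le_left)).comap_of_injective X.subtype X.subtype_injective
  have h1 : m ∈ centralizer (((B.subgroupOf X).map (proj a) : Subgroup (Bar a)) : Set (Bar a)) := by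
    refine mem_centralizer_iff.2 ?_
    rintro _ ⟨b, hb, rfl⟩
    exact (mem_centralizer_iff.1
      ((C.mem_pull ha (hB hb).1).1 (hB (mem_subgroupOf.1 hb))) m hm).symm
  rw [Components.centralizer_map_of_coprime hR _ (Cores.coprime_card_pPrimeCore 2)] at h1
  obtain ⟨y, hy, rfl⟩ := h1
  exact ⟨y, mem_centralizer_iff.2 fun b hb =>
    congrArg Subtype.val (mem_centralizer_iff.1 hy ⟨b, hBX hb⟩ (mem_subgroupOf.2 hb)), y.2, rfl⟩

/-- Only one moved component is centralised by the fixer of a simple one. -/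
theorem unique_moved (hloc : LocalsHold A) (hsc : SimpleComps A) {a : G} {M : Subgroup (Bar a)} {q : ℕ}
    (hM : MovedAt A a M q) {M' : Subgroup (Bar a)} (hM' : Moved (bar A a) M')
    (hfix : fixerAt A a M ≤ fixerAt A a M') : M' = M := by
  by_contra hne
  have ha := hM.mem
  obtain ⟨r, hr⟩ := (hloc a ha hM.ne).data M' hM'
  have hK : MovedAt A a M' r := ⟨ha, hM.ne, hM', hr⟩
  have hc : M' ≤ centralizer (M : Set (Bar a)) :=
    commutator_eq_bot_iff_le_centralizer.1
      (Components.IsComponent.commutator_eq_bot hM'.1 hM.moved.1 hne)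
  have hbot : bar A a ⊓ M' = ⊥ := by
    rw [Subgroup.eq_bot_iff_forall]
    rintro _ ⟨⟨x, hx, rfl⟩, hy⟩
    have hxA : (x : G) ∈ A := mem_subgroupOf.1 hx
    have h1 := hfix ((C.mem_pull ha hxA).2 (hc hy) : (x : G) ∈ fixerAt A a M)
    have h2 : (⟨proj a x, hy⟩ : ↥M') ∈ Subgroup.center ↥M' := mem_center_iff.2 fun y =>
      Subtype.ext (mem_centralizer_iff.1 ((C.mem_pull ha hxA).1 h1) y y.2)
    rw [hsc a M' r hK, mem_bot] at h2
    exact congrArg Subtype.val h2
  refine hM'.2 (le_centralizer_iff.1 ?_)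
  rw [← hr.sup, hbot, bot_sup_eq]
  exact inf_le_right

/-- The layer maps onto the component, the kernel is its odd core. -/
theorem pairLayer_equiv (hloc : LocalsHold A) (hsc : SimpleComps A) {a : G} {M : Subgroup (Bar a)}
    {q : ℕ} (hM : MovedAt A a M q) (hne : partAt A a M ≠ ⊥) :
    Nonempty ((↥(pairLayer (fixerAt A a M) (partAt A a M)) ⧸
      pPrimeCore 2 ↥(pairLayer (fixerAt A a M) (partAt A a M))) ≃* ↥M) := by
  haveI : Fact (Nat.Prime 2) := ⟨Nat.prime_two⟩
  set F := fixerAt A a M with hF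
  set P := partAt A a M with hP
  set L := pairLayer F P with hL
  set X := centralizer ({a} : Set G) with hX
  have ha := hM.mem
  haveI hsimple : IsSimpleGroup ↥M := by
    have h1 := hM.moved.1.2.2
    exact MulEquiv.isSimpleGroup ((QuotientGroup.quotientMulEquivOfEq (hsc a M q hM)).trans
      QuotientGroup.quotientBot).symm
  -- `C(F)` fixes `M`
  have hfixM : ∀ (w : G) (hw : w ∈ centralizer (F : Set G)) (hwa : w ∈ X),
      M.map (MulAut.conj (proj a ⟨w, hwa⟩)).toMonoidHom = M := by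
    intro w hw hwa
    refine C.unique_moved hloc hsc hM ((hloc a ha hM.ne).conj M hM.moved _) fun z hz => ?_
    have hzA : z ∈ A := hz.1
    refine (C.mem_pull ha hzA).2 (mem_centralizer_iff.2 ?_)
    rintro _ ⟨m, hm, rfl⟩
    have hm' : Commute (proj a ⟨z, C.le_centralizer_of_mem ha hzA⟩) m :=
      (mem_centralizer_iff.1 ((C.mem_pull ha hzA).1 hz) m hm).symm
    have hc : Commute (proj a ⟨z, C.le_centralizer_of_mem ha hzA⟩) (proj a ⟨w, hwa⟩) :=
      (show Commute (⟨z, C.le_centralizer_of_mem ha hzA⟩ : ↥X) ⟨w, hwa⟩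
        from Subtype.ext (mem_centralizer_iff.1 hw z hz)).map (proj a)
    exact ((hc.mul_right hm').mul_right hc.inv_right).eq.symm
  have hXF : centralizer (F : Set G) ≤ X := fun w hw =>
    mem_centralizer_singleton_iff.2 (mem_centralizer_iff.1 hw a (C.self_mem_fixerAt_moved hM)).symm
  have hpre : L ≤ pre a M := (Subgroup.closure_le _).2 (by
    rintro _ ⟨w, hw, p, hp, rfl⟩
    obtain ⟨hpa, hpM⟩ := mem_pre.1 (hp.2 : p ∈ pre a M)
    refine mem_pre.2 ⟨mul_mem (mul_mem (hXF hw) hpa) (inv_mem (hXF hw)), ?_⟩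
    have h1 := (conjMap_fixed (hfixM w hw (hXF hw))).1 hpM
    rwa [← map_inv, ← map_mul, ← map_mul] at h1)
  have hLX : L ≤ X := fun l hl => (mem_pre.1 (hpre hl)).1
  let φ : ↥L →* ↥M := ((proj a).comp (Subgroup.inclusion hLX)).codRestrict M fun l =>
    (mem_pre.1 (hpre l.2)).2
  have hnorm : centralizer (F : Set G) ≤ normalizer (L : Set G) := by
    refine fun w hw => Coprime.mem_normalizer_of_forall fun z hz => ?_
    have h1 : L ≤ L.comap (MulAut.conj w).toMonoidHom := (Subgroup.closure_le _).2 (by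
      rintro _ ⟨w', hw', p, hp, rfl⟩
      exact Subgroup.subset_closure ⟨w * w', mul_mem hw hw', p, hp, by
        simp only [MulEquiv.coe_toMonoidHom, MulAut.conj_apply]; group⟩)
    exact h1 hz
  haveI hrn : φ.range.Normal := by
    refine ⟨fun n hn g => ?_⟩
    obtain ⟨l, rfl⟩ := hn
    obtain ⟨w, hw, hwa, hwm⟩ := C.exists_cent_lift ha (le_rfl : F ≤ fixerAt A a M) g.2
    refine ⟨⟨w * (l : G) * w⁻¹, (mem_normalizer_iff.1 (hnorm hw) _).1 l.2⟩, Subtype.ext ?_⟩
    show proj a (⟨w, hwa⟩ * ⟨(l : G), hLX l.2⟩ * ⟨w, hwa⟩⁻¹) = _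
    rw [map_mul, map_mul, map_inv, hwm]
    rfl
  obtain ⟨p, hp, hp1⟩ := (Subgroup.bot_or_exists_ne_one P).resolve_left hne
  have hsurj : Function.Surjective φ := by
    rw [← MonoidHom.range_eq_top]
    refine hrn.eq_bot_or_eq_top.resolve_left fun e => hp1 ?_
    have h1 : φ ⟨p, Subgroup.subset_closure ⟨1, one_mem _, p, hp, by group⟩⟩ = 1 :=
      mem_bot.1 (e ▸ MonoidHom.mem_range.2 ⟨_, rfl⟩)
    exact C.eq_one_of_proj ha hp.1 (congrArg Subtype.val h1)
  have hker : φ.ker = pPrimeCore 2 ↥L := by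
    refine le_antisymm (Cores.le_pPrimeCore inferInstance ?_) ?_
    · let ι : ↥φ.ker →* ↥(pPrimeCore 2 ↥X) :=
        ((Subgroup.inclusion hLX).comp φ.ker.subtype).codRestrict _ fun l =>
          (QuotientGroup.eq_one_iff _).1 (congrArg Subtype.val (MonoidHom.mem_ker.1 l.2))
      exact (Cores.coprime_card_pPrimeCore 2).coprime_dvd_left (Subgroup.card_dvd_of_injective ι
        fun x y h => Subtype.ext (Subtype.ext (congrArg (fun z : ↥(pPrimeCore 2 ↥X) => ((z : ↥X) : G)) h)))
    · rw [← Subgroup.map_eq_bot_iff]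
      refine le_bot_iff.1 ((Cores.map_pPrimeCore_le φ hsurj 2).trans ?_)
      rcases (Cores.pPrimeCore_normal 2 ↥M).eq_bot_or_eq_top with e | e
      · rw [e]
      exfalso
      have hodd : (Nat.card ↥M).Coprime 2 := by
        have := Cores.coprime_card_pPrimeCore (G := ↥M) 2
        rwa [e, card_top] at this
      have h2 : φ ⟨p, Subgroup.subset_closure ⟨1, one_mem _, p, hp, by group⟩⟩ = 1 := by
        set l : ↥L := ⟨p, Subgroup.subset_closure ⟨1, one_mem _, p, hp, by group⟩⟩ with hl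
        have h3 : orderOf (φ l) ∣ 2 := by
          refine orderOf_dvd_of_pow_eq_one ?_
          rw [← map_pow, show l ^ 2 = 1 from
            Subtype.ext (by rw [SubgroupClass.coe_pow, pow_two]; exact C.sq hp.1), map_one]
        exact orderOf_eq_one_iff.1
          ((hodd.coprime_dvd_left (orderOf_dvd_natCard (φ l))).eq_one_of_dvd h3)
      exact hp1 (C.eq_one_of_proj ha hp.1 (congrArg Subtype.val h2))
  exact ⟨(QuotientGroup.quotientMulEquivOfEq hker).symm.trans
    (QuotientGroup.quotientKerEquivOfSurjective φ hsurj)⟩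

theorem borelCent_iff (hloc : LocalsHold A) (hsc : SimpleComps A) {a : G} {M : Subgroup (Bar a)}
    {q : ℕ} (hM : MovedAt A a M q) (hne : partAt A a M ≠ ⊥) :
    PairRank (fixerAt A a M, partAt A a M) ↔ BorelCent (↥M ⧸ Subgroup.center ↥M) := by
  obtain ⟨e⟩ := C.pairLayer_equiv hloc hsc hM hne
  exact borelCent_congr (e.trans ((QuotientGroup.quotientMulEquivOfEq (hsc a M q hM)).trans
    QuotientGroup.quotientBot).symm)

end Ctx

theorem pairLayer_map {G : Type u} [Group G] (C P : Subgroup G) (g : G) :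
    pairLayer (C.map (MulAut.conj g).toMonoidHom) (P.map (MulAut.conj g).toMonoidHom) =
      (pairLayer C P).map (MulAut.conj g).toMonoidHom := by
  rw [pairLayer, pairLayer, MonoidHom.map_closure]
  congr 1
  ext y
  constructor
  · rintro ⟨w, hw, _, ⟨p, hp, rfl⟩, rfl⟩
    refine ⟨g⁻¹ * w * g * p * (g⁻¹ * w * g)⁻¹, ⟨g⁻¹ * w * g, ?_, p, hp, rfl⟩, ?_⟩
    · refine mem_centralizer_iff.2 fun c hc => ?_
      have h1 := mem_centralizer_iff.1 hw _ ⟨c, hc, rfl⟩
      simp only [MulEquiv.coe_toMonoidHom, MulAut.conj_apply] at h1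
      calc c * (g⁻¹ * w * g) = g⁻¹ * (g * c * g⁻¹ * w) * g := by group
        _ = g⁻¹ * (w * (g * c * g⁻¹)) * g := by rw [h1]
        _ = g⁻¹ * w * g * c := by group
    · simp only [MulEquiv.coe_toMonoidHom, MulAut.conj_apply]; group
  · rintro ⟨_, ⟨w, hw, p, hp, rfl⟩, rfl⟩
    refine ⟨g * w * g⁻¹, ?_, g * p * g⁻¹, ⟨p, hp, rfl⟩, ?_⟩
    · refine mem_centralizer_iff.2 ?_
      rintro _ ⟨c, hc, rfl⟩
      simp only [MulEquiv.coe_toMonoidHom, MulAut.conj_apply]
      calc g * c * g⁻¹ * (g * w * g⁻¹) = g * (c * w) * g⁻¹ := by group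
        _ = g * (w * c) * g⁻¹ := by rw [mem_centralizer_iff.1 hw c hc]
        _ = g * w * g⁻¹ * (g * c * g⁻¹) := by group
    · simp only [MulEquiv.coe_toMonoidHom, MulAut.conj_apply]; group

theorem pairRank_conj {G : Type u} [Group G] [Finite G] (B : Subgroup G × Subgroup G) (g : G) :
    PairRank (B.1.map (MulAut.conj g).toMonoidHom, B.2.map (MulAut.conj g).toMonoidHom) ↔
      PairRank B := by
  let e : ↥(pairLayer B.1 B.2) ≃*
      ↥(pairLayer (B.1.map (MulAut.conj g).toMonoidHom) (B.2.map (MulAut.conj g).toMonoidHom)) :=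
    ((pairLayer B.1 B.2).equivMapOfInjective _ (MulAut.conj g).injective).trans
      (MulEquiv.subgroupCongr (pairLayer_map B.1 B.2 g).symm)
  exact (borelCent_congr (QuotientGroup.congr _ _ e (Cores.pPrimeCore_map_mulEquiv e 2))).symm

end Cfsg.Agent.Goldschmidt.General
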