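import Cfsg.Agent.Lib.Goldschmidt.General.Setup
import Cfsg.Agent.Lib.Goldschmidt.General.SmallBlocks
import Cfsg.Agent.Lib.Goldschmidt.Linear

/-!
# Small fixers (owner: helper84; section MakeFrame of `GENERAL.md`)

With `|C| = 2 ^ d`, `q = 2 ^ e`: `d = 1` gives `|A| = 8` with an automiser of odd order, and
`2 ≤ d ≤ e` is impossible.

* `Ctx.card_eq_mul` : `|A| = |C| q`
* `Ctx.of_card_two` : the case `d = 1`
* `Ctx.not_small_fixers` : the case `2 ≤ d ≤ e`
-/

set_option autoImplicit false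
set_option linter.unusedSectionVars false
set_option linter.style.haveILetI false

namespace Cfsg.Agent.Goldschmidt.General

open Cfsg Subgroup

universe u

namespace Ctx

variable {G : Type u} [Group G] [Finite G] {S : Sylow 2 G} {A : Subgroup G} (C : Ctx G S A)
include C

theorem le_normalizer_of_le {X Y : Subgroup G} (hX : X ≤ A) (hY : Y ≤ A) :
    X ≤ normalizer (Y : Set G) := fun _ hx => centralizer_le_normalizer _
  (mem_centralizer_iff.2 fun _ hy => C.comm (hY hy) (hX hx))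

theorem exists_mul_of_le {X Y : Subgroup G} (hX : X ≤ A) (hY : Y ≤ A) {z : G} (hz : z ∈ X ⊔ Y) :
    ∃ x ∈ X, ∃ y ∈ Y, x * y = z := by
  rw [← SetLike.mem_coe, coe_mul_of_left_le_normalizer_right X Y (C.le_normalizer_of_le hX hY)] at hz
  obtain ⟨x, hx, y, hy, e⟩ := hz
  exact ⟨x, hx, y, hy, e⟩

theorem card_mul_of_le {X Y : Subgroup G} (hX : X ≤ A) (hY : Y ≤ A) :
    Nat.card ↥(X ⊔ Y : Subgroup G) * Nat.card ↥(X ⊓ Y : Subgroup G) =
      Nat.card ↥X * Nat.card ↥Y :=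
  PLocal.card_sup_mul_card_inf (C.le_normalizer_of_le hY hX)

variable {q : ℕ} {ℬ : Set (Subgroup G × Subgroup G)} (T : TopBlocks A q ℬ)
include T

theorem block_le {B : Subgroup G × Subgroup G} (hB : B ∈ ℬ) : B.1 ≤ A ∧ B.2 ≤ A := by
  rw [← (T.compl B hB).1]
  exact ⟨le_sup_left, le_sup_right⟩

theorem card_eq_mul {B : Subgroup G × Subgroup G} (hB : B ∈ ℬ) :
    Nat.card ↥A = Nat.card ↥B.1 * q := by
  obtain ⟨hsup, hinf, hq, -⟩ := T.compl B hB
  have h := C.card_mul_of_le (block_le C T hB).1 (block_le C T hB).2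
  rw [hsup, hinf, card_bot, mul_one, hq] at h
  exact h

omit T

/-- The automiser has no subgroup of index two. -/
theorem no_index_two_autV :
    ¬ ∃ H : Subgroup ↥(A.normalizerMonoidHom).range, H.Normal ∧ H.index = 2 :=
  fun ⟨H, _, hH⟩ => C.no_index_two (H.comap (MonoidHom.rangeRestrict _))
    (by rw [index_comap_of_surjective H (MonoidHom.rangeRestrict_surjective _)]; exact hH)

/-- The automiser is irreducible. -/
theorem irred_autV (W : Subgroup ↥A)
    (h : ∀ g ∈ (A.normalizerMonoidHom).range, ∀ w ∈ W, g w ∈ W) : W = ⊥ ∨ W = ⊤ := by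
  refine (C.irred (W.map A.subtype) (map_subtype_le W) fun n hn =>
    Coprime.mem_normalizer_of_forall ?_).imp (fun e => ?_) fun e => ?_
  · rintro _ ⟨w, hw, rfl⟩
    exact ⟨_, h _ ⟨⟨n, hn⟩, rfl⟩ w hw, rfl⟩
  · exact (map_eq_bot_iff_of_injective _ A.subtype_injective).1 e
  · refine map_injective A.subtype_injective ?_
    rw [e, ← MonoidHom.range_eq_map, range_subtype]

omit C

theorem autV_apply (n : ↥(normalizer (A : Set G))) (x : ↥A) :
    ((A.normalizerMonoidHom n x : ↥A) : G) = n * x * (n : G)⁻¹ := rfl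

theorem autV_pow_apply (n : ↥(normalizer (A : Set G))) (k : ℕ) (x : ↥A) :
    (((A.normalizerMonoidHom n ^ k) x : ↥A) : G) = (n : G) ^ k * x * ((n : G) ^ k)⁻¹ := by
  rw [← map_pow, autV_apply, SubmonoidClass.coe_pow]

theorem map_subgroupOf_autV {B : Subgroup G} (hB : B ≤ A) (n : ↥(normalizer (A : Set G))) :
    (B.subgroupOf A).map (A.normalizerMonoidHom n).toMonoidHom =
      (B.map (MulAut.conj (n : G)).toMonoidHom).subgroupOf A := by
  ext x
  constructor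
  · rintro ⟨y, hy, rfl⟩
    exact mem_subgroupOf.2 ⟨y, hy, rfl⟩
  · rintro ⟨b, hb, hbe⟩
    exact ⟨⟨b, hB hb⟩, hb, Subtype.ext hbe⟩

include C T

/-- Fixers of order two. -/
theorem of_card_two (hA : 8 ≤ Nat.card ↥A) {B : Subgroup G × Subgroup G} (hB : B ∈ ℬ)
    (h2 : Nat.card ↥B.1 = 2) :
    q = 4 ∧ Nat.card ↥A = 8 ∧ (S : Subgroup G) ≤ centralizer (A : Set G) := by
  haveI : Fact (Nat.Prime 2) := ⟨Nat.prime_two⟩
  obtain ⟨hsup, hinf, hq, hne⟩ := T.compl B hB
  obtain ⟨h1A, h2A⟩ := block_le C T hB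
  have hmul := card_eq_mul C T hB
  rw [h2] at hmul
  obtain ⟨c, hc, hc1⟩ := (Subgroup.bot_or_exists_ne_one B.1).resolve_left hne
  set c' : ↥A := ⟨c, h1A hc⟩ with hc'
  have hV : ∀ x : ↥A, x * x = 1 := fun x => Subtype.ext (C.sq x.2)
  have hB1 : B.1 = zpowers c := (eq_of_le_of_card_ge (zpowers_le.2 hc) (by
    rw [Nat.card_zpowers, h2, orderOf_eq_prime (p := 2) (by rw [pow_two]; exact C.sq (h1A hc)) hc1])).symm
  obtain ⟨y, hy, hyc, hyn, hytr, hyu⟩ := T.torus B hB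
  set φ := A.normalizerMonoidHom
  set N := φ.range
  set P : Subgroup ↥A := B.2.subgroupOf A
  set h : MulAut ↥A := φ ⟨y, hy⟩
  have hhN : h ∈ N := ⟨_, rfl⟩
  have hPcard : Nat.card ↥P = q := by rw [Cores.card_subgroupOf h2A, hq]
  have hha : h c' = c' := Subtype.ext (by
    rw [autV_apply]
    exact mul_inv_eq_iff_eq_mul.2 (mem_centralizer_iff.1 hyc c hc).symm)
  have hcP : c' ∉ P := fun hh => hc1 ((Subgroup.eq_bot_iff_forall _).1 hinf c ⟨hc, mem_subgroupOf.1 hh⟩)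
  have hPsup : P ⊔ zpowers c' = ⊤ := top_unique fun x _ => by
    obtain ⟨u, hu, v, hv, huv⟩ := C.exists_mul_of_le h2A h1A
      (z := (x : G)) (by rw [sup_comm, hsup]; exact x.2)
    rw [hB1] at hv
    obtain ⟨i, rfl⟩ := mem_zpowers_iff.1 hv
    have he : x = ⟨u, h2A hu⟩ * c' ^ i := Subtype.ext (by
      rw [Subgroup.coe_mul, SubgroupClass.coe_zpow]; exact huv.symm)
    rw [he]
    exact mul_mem (mem_sup_left (mem_subgroupOf.2 hu)) (mem_sup_right (zpow_mem (mem_zpowers _) i))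
  have hinv : ∀ p ∈ P, h p ∈ P := fun p hp =>
    mem_subgroupOf.2 ((mem_normalizer_iff.1 hyn _).1 (mem_subgroupOf.1 hp))
  have hreg : ∀ p ∈ P, ∀ r ∈ P, p ≠ 1 → r ≠ 1 → ∃ k : ℕ, (h ^ k) p = r := fun p hp r hr hp1 hr1 => by
    obtain ⟨k, hk⟩ := hytr p hp r hr (fun e => hp1 (Subtype.ext e)) (fun e => hr1 (Subtype.ext e))
    exact ⟨k, Subtype.ext (by rw [autV_pow_apply]; exact hk)⟩
  have htr := Linear.transitive_of_irreducible hV N (a := c') (fun e => hc1 (congrArg Subtype.val e))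
    hcP hPsup (by omega)
    (fun p hp r hr hp1 hr1 => by
      obtain ⟨k, hk⟩ := hreg p hp r hr hp1 hr1
      refine ⟨h ^ k, pow_mem hhN k, ?_, hk⟩
      rw [← zpow_natCast]
      exact Linear.zpow_fix hha k)
    C.irred_autV
  have hnorm : ∀ g ∈ N, g c' = c' → g * h * g⁻¹ ∈ zpowers h := by
    rintro _ ⟨n, rfl⟩ hn
    have hn' : (n : G) * c * (n : G)⁻¹ = c := by
      have := congrArg Subtype.val hn
      rwa [autV_apply] at this
    obtain ⟨k, hk⟩ := hyu n n.2 (by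
      rw [hB1, MonoidHom.map_zpowers]
      exact congrArg zpowers hn')
    refine mem_zpowers_iff.2 ⟨k, ?_⟩
    rw [zpow_natCast, ← map_inv φ, ← map_mul φ, ← map_mul φ, ← map_pow φ]
    refine MulEquiv.ext fun x => Subtype.ext ?_
    rw [autV_apply, autV_apply]
    simpa using (hk x x.2).symm
  rcases Linear.exists_index_two_or_card_eq_four hV N htr (fun e => hc1 (congrArg Subtype.val e))
    hcP hPsup (by omega) hhN hha hinv hreg hnorm with hidx | ⟨hodd, h4, h8⟩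
  · exact absurd hidx C.no_index_two_autV
  refine ⟨by omega, h8, fun s hs => mem_centralizer_iff.2 fun a ha => ?_⟩
  obtain ⟨j, hj⟩ := S.isPGroup' ⟨s, hs⟩
  have hj' : s ^ 2 ^ j = 1 := congrArg Subtype.val hj
  have hs1 : φ.rangeRestrict ⟨s, C.sylow_le_normalizer hs⟩ = 1 := by
    set z := φ.rangeRestrict ⟨s, C.sylow_le_normalizer hs⟩
    have h5 : orderOf z ∣ 2 ^ j := by
      refine orderOf_dvd_of_pow_eq_one ?_
      rw [← map_pow, show (⟨s, C.sylow_le_normalizer hs⟩ : ↥(normalizer (A : Set G))) ^ 2 ^ j = 1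
        from Subtype.ext (by rw [SubmonoidClass.coe_pow]; exact hj'), map_one]
    exact orderOf_eq_one_iff.1 (((Nat.coprime_two_right.2 hodd).pow_right j).coprime_dvd_left
      (orderOf_dvd_natCard z) |>.eq_one_of_dvd h5)
  have h6 := congrArg (fun z : ↥N => ((((z : MulAut ↥A)) ⟨a, ha⟩ : ↥A) : G)) hs1
  simp only [MonoidHom.coe_rangeRestrict, OneMemClass.coe_one, MulAut.one_apply] at h6
  rw [autV_apply] at h6
  exact (mul_inv_eq_iff_eq_mul.1 h6).symm

/-- Fixers with at most `q` elements and at least four. -/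
theorem not_small_fixers {d e : ℕ} (hd : 2 ≤ d) (hde : d ≤ e) (hq : q = 2 ^ e)
    (hcard : ∀ B ∈ ℬ, Nat.card ↥B.1 = 2 ^ d) : False := by
  set φ := A.normalizerMonoidHom
  set V := ↥A
  set 𝒱 : Set (Subgroup V × Subgroup V) :=
    (fun B => (B.1.subgroupOf A, B.2.subgroupOf A)) '' ℬ
  have hinj : ∀ B ∈ ℬ, ∀ B' ∈ ℬ, B.1.subgroupOf A = B'.1.subgroupOf A → B.1 = B'.1 := by
    intro B hB B' hB' he
    exact le_antisymm (fun x hx => by
        have : (⟨x, (block_le C T hB).1 hx⟩ : V) ∈ B'.1.subgroupOf A := he ▸ mem_subgroupOf.2 hx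
        exact mem_subgroupOf.1 this)
      fun x hx => by
        have : (⟨x, (block_le C T hB').1 hx⟩ : V) ∈ B.1.subgroupOf A := he ▸ mem_subgroupOf.2 hx
        exact mem_subgroupOf.1 this
  refine smallBlocksTarget V φ.range 𝒱 d e (fun x => Subtype.ext (C.sq x.2)) C.no_index_two_autV
    C.irred_autV (T.nonempty.image _) hd hde ?_ ?_ ?_ ?_ ?_
  · rintro _ ⟨B, hB, rfl⟩
    obtain ⟨hsup, hinf, hBq, -⟩ := T.compl B hB
    obtain ⟨h1A, h2A⟩ := block_le C T hB
    refine ⟨(Cores.card_subgroupOf h1A).trans (hcard B hB),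
      ((Cores.card_subgroupOf h2A).trans hBq).trans hq, top_unique fun x _ => ?_,
      (Subgroup.eq_bot_iff_forall _).2 fun x hx => Subtype.ext
        ((Subgroup.eq_bot_iff_forall _).1 hinf x ⟨mem_subgroupOf.1 hx.1, mem_subgroupOf.1 hx.2⟩)⟩
    obtain ⟨u, hu, v, hv, huv⟩ := C.exists_mul_of_le h1A h2A (z := (x : G)) (by rw [hsup]; exact x.2)
    rw [show x = (⟨u, h1A hu⟩ : V) * ⟨v, h2A hv⟩ from Subtype.ext huv.symm]
    exact mul_mem (mem_sup_left (mem_subgroupOf.2 hu)) (mem_sup_right (mem_subgroupOf.2 hv))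
  · rintro _ ⟨B, hB, rfl⟩ _ ⟨n, rfl⟩
    refine ⟨_, T.conj B hB n n.2, ?_⟩
    obtain ⟨h1A, h2A⟩ := block_le C T hB
    simp only
    rw [map_subgroupOf_autV h1A, map_subgroupOf_autV h2A]
  · rintro _ ⟨B, hB, rfl⟩ _ ⟨B', hB', rfl⟩ he
    rw [T.func B hB B' hB' (hinj B hB B' hB' he)]
  · rintro _ ⟨B, hB, rfl⟩ _ ⟨B', hB', rfl⟩ hne
    have hne' : B.1 ≠ B'.1 := fun he => hne (by simp [he])
    refine (Subgroup.eq_bot_iff_forall _).2 fun x hx => Subtype.ext ?_
    by_contra hx1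
    have hmeet : B.1 ⊓ B'.1 ≠ ⊥ := fun hb => hx1
      ((Subgroup.eq_bot_iff_forall _).1 hb x ⟨mem_subgroupOf.1 hx.1, mem_subgroupOf.1 hx.2⟩)
    obtain ⟨h1, -⟩ := T.meet B hB B' hB' hne' hmeet
    have h3 := (T.compl B hB).2.2.1
    have h4 : B.2 = B'.1 := eq_of_le_of_card_ge h1 (by
      rw [h3, hcard B' hB', hq]
      exact Nat.pow_le_pow_right two_pos hde)
    exact hmeet (h4 ▸ (T.compl B hB).2.1)
  · rintro _ ⟨B, hB, rfl⟩
    obtain ⟨y, hy, hyc, hyn, hytr, hyu⟩ := T.torus B hB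
    refine ⟨φ ⟨y, hy⟩, ⟨_, rfl⟩, fun c hc => Subtype.ext ?_, fun p hp => ?_,
      fun x hx z hz hx1 hz1 => ?_, ?_⟩
    · rw [autV_apply]
      exact mul_inv_eq_iff_eq_mul.2 (mem_centralizer_iff.1 hyc c (mem_subgroupOf.1 hc)).symm
    · exact mem_subgroupOf.2 ((mem_normalizer_iff.1 hyn _).1 (mem_subgroupOf.1 hp))
    · obtain ⟨k, hk⟩ := hytr x (mem_subgroupOf.1 hx) z (mem_subgroupOf.1 hz)
        (fun e => hx1 (Subtype.ext e)) (fun e => hz1 (Subtype.ext e))
      exact ⟨k, Subtype.ext (by rw [autV_pow_apply]; exact hk)⟩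
    · rintro _ ⟨n, rfl⟩ he
      have h1 := map_subgroupOf_autV (block_le C T hB).1 n
      rw [h1] at he
      obtain ⟨k, hk⟩ := hyu n n.2 (hinj _ (T.conj B hB n n.2) B hB he)
      refine ⟨k, ?_⟩
      rw [← map_inv φ, ← map_mul φ, ← map_mul φ, ← map_pow φ]
      refine MulEquiv.ext fun x => Subtype.ext ?_
      rw [autV_apply, autV_apply]
      simpa using hk x x.2

end Ctx

end Cfsg.Agent.Goldschmidt.General
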